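import Groth.Agent.TorProZero.Basic
import Mathlib

/-!
Bases of the killed parts of a module equal to its own base change along a flat ring map.
-/

set_option autoImplicit false
set_option linter.style.haveILetI false
set_option backward.isDefEq.respectTransparency false

universe u

open TensorProduct

namespace Groth.Agent.FrobHull

variable {R : Type u} [CommRing R] {M : Type u} [AddCommGroup M] [Module R M]

/-- `v` is a basis over `R/a` of the part of `M` killed by `a`. -/
structure IsKilledBasis {J : Type u} (a : Ideal R) (v : J → M) : Prop where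
  smul_eq_zero : ∀ j, ∀ r ∈ a, r • v j = 0
  mem_span : ∀ z : M, (∀ r ∈ a, r • z = 0) → ∃ c : J →₀ R, Finsupp.linearCombination R v c = z
  mem_of_eq_zero : ∀ c : J →₀ R, Finsupp.linearCombination R v c = 0 → ∀ j, c j ∈ a

theorem IsKilledBasis.baseChange [IsNoetherianRing R] {S : Type u} [CommRing S] [Algebra R S] [Module.Flat R S]
    (σ : S ≃+* R) (e : S ⊗[R] M ≃+ M) (he : ∀ (s : S) (x : S ⊗[R] M), e (s • x) = σ s • e x)
    {J : Type u} {a : Ideal R} {v : J → M} (h : IsKilledBasis a v) :
    IsKilledBasis ((a.map (algebraMap R S)).map (σ : S →+* R)) (fun j => e ((1 : S) ⊗ₜ[R] v j)) := by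
  classical
  let v' : J → M := fun j => e ((1 : S) ⊗ₜ[R] v j)
  let q : J → ((R ⧸ a) →ₗ[R] M) := fun j =>
    Submodule.liftQ a (LinearMap.toSpanSingleton R M (v j)) fun r hr => h.smul_eq_zero j r hr
  let ψ : (J →₀ R ⧸ a) →ₗ[R] M := Finsupp.lsum R q
  have hψsingle : ∀ j (r : R), ψ (Finsupp.single j (Submodule.Quotient.mk r)) = r • v j := fun j r => by
    show (Finsupp.lsum R q) (Finsupp.single j _) = _
    rw [Finsupp.lsum_single]; rfl
  have hψmk : ∀ c : J →₀ R,
      ψ (c.mapRange (Submodule.Quotient.mk (p := a)) (Submodule.Quotient.mk_zero _)) =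
        Finsupp.linearCombination R v c := by
    intro c
    induction c using Finsupp.induction_linear with
    | zero => simp
    | add c c' hc hc' => rw [Finsupp.mapRange_add (fun x y => Submodule.Quotient.mk_add a), map_add, map_add, hc, hc']
    | single j r => rw [Finsupp.mapRange_single, hψsingle, Finsupp.linearCombination_single]
  have hψ : Function.Injective ψ := by
    rw [injective_iff_map_eq_zero]
    intro w hw
    obtain ⟨c, rfl⟩ := Finsupp.mapRange_surjective _ (Submodule.Quotient.mk_zero _) (Submodule.Quotient.mk_surjective a) w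
    rw [hψmk] at hw
    ext j
    rw [Finsupp.mapRange_apply, Finsupp.zero_apply, Submodule.Quotient.mk_eq_zero]
    exact h.mem_of_eq_zero c hw j
  obtain ⟨G, hG⟩ : a.FG := IsNoetherian.noetherian a
  let Φ : M →ₗ[R] (G → M) := LinearMap.pi fun g => LinearMap.lsmul R M (g : R)
  have hex : Function.Exact ψ Φ := by
    intro z
    constructor
    · intro hz
      obtain ⟨c, hc⟩ := h.mem_span z fun r hr => by
        rw [← hG] at hr
        induction hr using Submodule.span_induction with
        | mem g hg => exact congrFun hz ⟨g, hg⟩
        | zero => rw [zero_smul]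
        | add x y _ _ hx hy => rw [add_smul, hx, hy, add_zero]
        | smul t x _ hx => rw [smul_assoc, hx, smul_zero]
      exact ⟨_, (hψmk c).trans hc⟩
    · rintro ⟨w, rfl⟩
      obtain ⟨c, rfl⟩ := Finsupp.mapRange_surjective _ (Submodule.Quotient.mk_zero _) (Submodule.Quotient.mk_surjective a) w
      funext g
      show (g : R) • ψ _ = 0
      rw [hψmk, ← map_smul, Finsupp.linearCombination_apply, Finsupp.sum]
      refine Finset.sum_eq_zero fun j _ => ?_
      rw [Finsupp.smul_apply, smul_eq_mul, mul_comm, mul_smul, h.smul_eq_zero j g (hG ▸ Submodule.subset_span g.2),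
        smul_zero]
  have hker : ∀ j, ∀ s ∈ a.map (algebraMap R S), s • ((1 : S) ⊗ₜ[R] v j) = 0 := by
    intro j s hs
    induction hs using Submodule.span_induction with
    | mem x hx =>
      obtain ⟨r, hr, rfl⟩ := hx
      rw [algebraMap_smul, ← TensorProduct.tmul_smul, h.smul_eq_zero j r hr, TensorProduct.tmul_zero]
    | zero => rw [zero_smul]
    | add x y _ _ hx hy => rw [add_smul, hx, hy, add_zero]
    | smul t x _ hx => rw [smul_assoc, hx, smul_zero]
  refine ⟨fun j r hr => ?_, fun z hz => ?_, fun c hc j => ?_⟩
  · obtain ⟨s, hs, rfl⟩ := (Ideal.mem_map_iff_of_surjective (σ : S →+* R) σ.surjective).1 hr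
    show σ s • e _ = 0
    rw [← he, hker j s hs, map_zero]
  · let x := e.symm z
    have hx : Φ.lTensor S x = 0 := by
      have hg : ∀ g : G, (LinearMap.lsmul R M (g : R)).lTensor S x = 0 := by
        intro g
        have h1 : (LinearMap.lsmul R M (g : R)).lTensor S x = algebraMap R S g • x := by
          induction x using TensorProduct.induction_on with
          | zero => simp
          | tmul s m =>
            rw [LinearMap.lTensor_tmul, LinearMap.lsmul_apply, algebraMap_smul, TensorProduct.tmul_smul]
          | add p q hp hq => rw [map_add, hp, hq, smul_add]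
        rw [h1]
        refine e.injective ?_
        rw [he, map_zero, show e x = z from e.apply_symm_apply z]
        exact hz _ (Ideal.mem_map_of_mem _ (Ideal.mem_map_of_mem _ (hG ▸ Submodule.subset_span g.2)))
      apply (TensorProduct.piRight R R S (fun _ : G => M)).injective
      rw [map_zero]
      funext g
      refine Eq.trans ?_ (hg g)
      show (TensorProduct.piRight R R S (fun _ : G => M)) (Φ.lTensor S x) g = _
      induction x using TensorProduct.induction_on with
      | zero => simp
      | tmul s m => simp [Φ]
      | add p q hp hq => simp only [map_add, Pi.add_apply, hp, hq]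
    obtain ⟨w, hw⟩ := (Module.Flat.lTensor_exact S hex x).1 hx
    have hspan : ∀ w, e (ψ.lTensor S w) ∈ Submodule.span R (Set.range v') := by
      intro w
      induction w using TensorProduct.induction_on with
      | zero => simp
      | add p q hp hq => rw [map_add, map_add]; exact add_mem hp hq
      | tmul s c =>
        rw [LinearMap.lTensor_tmul]
        induction c using Finsupp.induction_linear with
        | zero => simp
        | add c c' hc hc' => rw [map_add, TensorProduct.tmul_add, map_add]; exact add_mem hc hc'
        | single j r =>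
          obtain ⟨r, rfl⟩ := Submodule.Quotient.mk_surjective a r
          rw [hψsingle, TensorProduct.tmul_smul, TensorProduct.smul_tmul',
            show (r • s) ⊗ₜ[R] v j = (r • s : S) • ((1 : S) ⊗ₜ[R] v j) by
              rw [TensorProduct.smul_tmul', smul_eq_mul, mul_one], he]
          exact Submodule.smul_mem _ _ (Submodule.subset_span ⟨j, rfl⟩)
    have h2 := hspan w
    rw [hw, show e x = z from e.apply_symm_apply z] at h2
    exact Finsupp.mem_span_range_iff_exists_finsupp.1 h2
  · let w : S ⊗[R] (J →₀ R ⧸ a) :=
      ∑ i ∈ c.support, σ.symm (c i) • ((1 : S) ⊗ₜ[R] Finsupp.single i (Submodule.Quotient.mk (1 : R)))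
    have hw : ψ.lTensor S w = 0 := by
      refine e.injective ?_
      rw [map_zero, map_sum, map_sum, ← hc, Finsupp.linearCombination_apply, Finsupp.sum]
      refine Finset.sum_congr rfl fun i _ => ?_
      rw [TensorProduct.smul_tmul', LinearMap.lTensor_tmul, hψsingle, one_smul,
        show (σ.symm (c i) • (1 : S)) ⊗ₜ[R] v i = σ.symm (c i) • ((1 : S) ⊗ₜ[R] v i) from rfl, he,
        RingEquiv.apply_symm_apply]
    have hw0 : w = 0 := Module.Flat.lTensor_preserves_injective_linearMap (M := S) ψ hψ (hw.trans (map_zero _).symm)
    by_cases hj : j ∈ c.support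
    swap
    · rw [Finsupp.notMem_support_iff.1 hj]; exact zero_mem _
    have h3 := congrArg ((Finsupp.lapply j : (J →₀ R ⧸ a) →ₗ[R] R ⧸ a).lTensor S) hw0
    rw [map_zero, map_sum, Finset.sum_eq_single j (fun i _ hij => by
      rw [TensorProduct.smul_tmul', LinearMap.lTensor_tmul, Finsupp.lapply_apply,
        Finsupp.single_eq_of_ne (Ne.symm hij), TensorProduct.tmul_zero]) (fun h => absurd hj h),
      TensorProduct.smul_tmul', LinearMap.lTensor_tmul, Finsupp.lapply_apply, Finsupp.single_eq_same,
      smul_eq_mul, mul_one, TorProZero.tmul_one_eq_zero_iff] at h3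
    have h4 : σ.symm (c j) ∈ a.map (algebraMap R S) := by
      refine Submodule.smul_induction_on h3 (fun r hr x _ => ?_) (fun x y hx hy => add_mem hx hy)
      rw [Algebra.smul_def]
      exact Ideal.mul_mem_right _ _ (Ideal.mem_map_of_mem _ hr)
    have h5 := Ideal.mem_map_of_mem (σ : S →+* R) h4
    rwa [RingEquiv.coe_toRingHom, RingEquiv.apply_symm_apply] at h5

end Groth.Agent.FrobHull
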