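import Groth.Agent.FrobHull.Basic
import Groth.Agent.Kunz.Basic
import Groth.Agent.SerreReg.Descent
import Groth.Agent.SerreReg.MiracleFinite
import Groth.Agent.RegPow.Basic
import Groth.Agent.GorTor.Basic
import Groth.Agent.Goren.Flat
import Groth.Agent.InjHull.Noetherian
import Groth.Agent.InjHull.Matlis
import Groth.Agent.S0336
import Groth.Agent.S0342
import Groth.Prelude.Def_FrobAlg

/-!
A power torsion module stable under Frobenius base change over a regular local ring is a sum of hulls.
-/

set_option autoImplicit false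
set_option linter.style.haveILetI false
set_option backward.isDefEq.respectTransparency false

universe u

open CategoryTheory IsLocalRing

namespace Groth.Agent.FrobHull

theorem exists_sum_hull (p : ℕ) [Fact p.Prime] (R : Type u) [CommRing R] [IsRegularLocalRing R] [CharP R p]
    {E : Type u} [AddCommGroup E] [Module R E] (f : (R ⧸ maximalIdeal R) →ₗ[R] E) (hf : InjHull.IsInjectiveHull f)
    (M : Type u) [AddCommGroup M] [Module R M] (hM : LocCoh.IsPowerTorsion (maximalIdeal R) M)
    (h : Nonempty ((ModuleCat.extendScalars (frobenius R p)).obj (ModuleCat.of R M) ≅ ModuleCat.of R M)) :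
    ∃ ι : Type u, Nonempty (M ≃ₗ[R] (ι →₀ E)) := by
  classical
  obtain ⟨iso⟩ := h
  let L := iso.toLinearEquiv
  let σ : FrobAlg.Twist p R ≃+* R := (FrobAlg.toTwist p R).symm
  let e : TensorProduct R (FrobAlg.Twist p R) M ≃+ M :=
    { toFun := fun x => L x
      invFun := fun m => L.symm m
      left_inv := fun x => L.symm_apply_apply x
      right_inv := fun m => L.apply_symm_apply m
      map_add' := fun x y => L.map_add x y }
  have he : ∀ (s : FrobAlg.Twist p R) (x : TensorProduct R (FrobAlg.Twist p R) M), e (s • x) = σ s • e x :=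
    fun s x => L.map_smul (σ s) x
  haveI : IsRegularRing R := ⟨fun q _ => SerreReg.isRegularLocalRing_localization R q⟩
  haveI : Module.Flat R (FrobAlg.Twist p R) :=
    RingHom.flat_algebraMap_iff.1 ((S0336.result p R).1 inferInstance)
  let m := maximalIdeal R
  letI : Field (R ⧸ m) := Ideal.Quotient.field m
  let V := Submodule.torsionBySet R M (m : Set R)
  letI : Module (R ⧸ m) V := (Submodule.torsionBySet_isTorsionBySet (R := R) (M := M) (m : Set R)).module
  haveI : IsScalarTower R (R ⧸ m) V :=
    (Submodule.torsionBySet_isTorsionBySet (R := R) (M := M) (m : Set R)).isScalarTower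
  let J := Module.Basis.ofVectorSpaceIndex (R ⧸ m) V
  let b : Module.Basis J (R ⧸ m) V := Module.Basis.ofVectorSpace (R ⧸ m) V
  let v₀ : J → M := fun j => (b j : M)
  have hbase : IsKilledBasis m v₀ := by
    have hsum : ∀ c : J →₀ R, Finsupp.linearCombination R v₀ c =
        ((Finsupp.linearCombination (R ⧸ m) b (c.mapRange (Ideal.Quotient.mk m) (map_zero _))) : M) := by
      intro c
      induction c using Finsupp.induction_linear with
      | zero => simp
      | add c c' hc hc' =>
        rw [Finsupp.mapRange_add (fun x y => map_add _ x y), map_add, map_add, Submodule.coe_add, hc, hc']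
      | single j r =>
        rw [Finsupp.mapRange_single, Finsupp.linearCombination_single, Finsupp.linearCombination_single,
          ← Ideal.Quotient.algebraMap_eq, algebraMap_smul, Submodule.coe_smul]
    refine ⟨fun j r hr => (Submodule.mem_torsionBySet_iff _ _).1 (b j).2 ⟨r, hr⟩, fun z hz => ?_, fun c hc j => ?_⟩
    · have hzV : z ∈ V := (Submodule.mem_torsionBySet_iff _ _).2 fun r => hz r.1 r.2
      obtain ⟨c, hc⟩ := Finsupp.mapRange_surjective (Ideal.Quotient.mk m) (map_zero _) Ideal.Quotient.mk_surjective
        (b.repr ⟨z, hzV⟩)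
      exact ⟨c, by rw [hsum, hc, b.linearCombination_repr]⟩
    · rw [hsum, Submodule.coe_eq_zero] at hc
      have h1 := linearIndependent_iff.1 b.linearIndependent _ hc
      have h2 := DFunLike.congr_fun h1 j
      rw [Finsupp.mapRange_apply, Finsupp.zero_apply, Ideal.Quotient.eq_zero_iff_mem] at h2
      exact h2
  obtain ⟨d, hd⟩ := SerreReg.exists_dim_nat R
  obtain ⟨rs, hlen, hrs, hspan⟩ := SerreReg.exists_regular_rsop d R hd
  let a : ℕ → Ideal R := fun n => Ideal.ofList (rs.map (· ^ p ^ n))
  have ha0 : a 0 = m := by simp only [a, pow_zero, pow_one, List.map_id']; exact hspan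
  have hasucc : ∀ n, a (n + 1) =
      ((a n).map (algebraMap R (FrobAlg.Twist p R))).map (σ : FrobAlg.Twist p R →+* R) := by
    intro n
    simp only [a, Ideal.map_ofList, List.map_map]
    congr 1
    refine List.map_congr_left fun r _ => ?_
    show r ^ p ^ (n + 1) = (r ^ p ^ n) ^ p
    rw [← pow_mul, pow_succ]
  have hbasis : ∀ n, ∃ v : J → M, IsKilledBasis (a n) v := by
    intro n
    induction n with
    | zero => exact ⟨v₀, by rw [ha0]; exact hbase⟩
    | succ n ih =>
      obtain ⟨v, hv⟩ := ih
      exact ⟨_, by rw [hasucc]; exact hv.baseChange σ e he⟩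
  have hale : ∀ n, a n ≤ m ^ (p ^ n) := fun n => Ideal.span_le.2 fun x hx => by
    obtain ⟨r, hr, rfl⟩ := List.mem_map.1 hx
    refine Ideal.pow_mem_pow ?_ _
    show r ∈ maximalIdeal R
    rw [← hspan]
    exact Ideal.subset_span hr
  have halem : ∀ n, a n ≤ m := fun n =>
    (hale n).trans (Ideal.pow_le_self (pow_ne_zero _ (Fact.out : p.Prime).ne_zero))
  -- the hull side
  let f' : (R ⧸ m) →ₗ[R] E := f
  let sV : V →ₗ[R] (J →₀ E) :=
    (Finsupp.mapRange.linearMap f') ∘ₗ (b.repr.toLinearMap.restrictScalars R)
  have hsinj : Function.Injective sV := by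
    intro x y hxy
    apply b.repr.injective
    exact Finsupp.mapRange_injective f' (map_zero _) hf.injective hxy
  have hsoc : ∀ y : J →₀ E, (∀ r ∈ m, r • y = 0) → y ∈ LinearMap.range sV := by
    intro y hy
    have hy' : ∀ j, y j ∈ LinearMap.range f' := fun j =>
      Groth.Agent.InjHull.mem_range_of_smul_eq_zero (m := m) hf fun r hr => by
        have := congrArg (fun w : J →₀ E => w j) (hy r hr)
        simpa using this
    choose c hc using hy'
    have hsupp : ∀ j, c j ≠ 0 → j ∈ y.support := fun j h => Finsupp.mem_support_iff.2 fun h0 =>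
      h (hf.injective (((hc j).trans h0).trans (map_zero f).symm))
    refine ⟨b.repr.symm (Finsupp.onFinset y.support c hsupp), ?_⟩
    ext j
    show f' ((b.repr (b.repr.symm (Finsupp.onFinset y.support c hsupp))) j) = y j
    rw [LinearEquiv.apply_symm_apply, Finsupp.onFinset_apply, hc]
  haveI hE := hf.isInjective
  haveI : Module.Injective R (J →₀ E) :=
    haveI : Module.Injective R (Π₀ _ : J, E) :=
      Groth.Agent.InjHull.injective_directSum (R := R) (fun _ : J => E) fun _ => hE
    Groth.Agent.InjHull.injective_of_linearEquiv (finsuppLequivDFinsupp R).symm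
  obtain ⟨g, hg⟩ := Module.Injective.out (R := R) V.subtype (Submodule.injective_subtype _) sV
  have ginj : Function.Injective g := by
    have key : ∀ (k : ℕ) (z : M), (∀ r ∈ m ^ k, r • z = 0) → g z = 0 → z = 0 := by
      intro k
      induction k with
      | zero =>
        intro z hz _
        simpa using hz 1 (by simp)
      | succ k ih =>
        intro z hz h0
        have hzV : z ∈ V := (Submodule.mem_torsionBySet_iff _ _).2 fun r => ih _
          (fun t ht => by rw [smul_smul]; exact hz _ (by rw [pow_succ]; exact Ideal.mul_mem_mul ht r.2))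
          (by rw [map_smul, h0, smul_zero])
        have h2 : sV ⟨z, hzV⟩ = 0 := by rw [← hg]; exact h0
        exact congrArg Subtype.val (hsinj (h2.trans (map_zero sV).symm))
    refine (injective_iff_map_eq_zero g).2 fun z hz => ?_
    obtain ⟨k, hk⟩ := hM z
    exact key k z hk hz
  have gsurj : Function.Surjective g := by
    intro y
    -- `y` is killed by some `a n`
    have htor : ∀ y : J →₀ E, ∃ n, ∀ r ∈ a n, r • y = 0 := by
      intro y
      have ht := Groth.Agent.InjHull.isPowerTorsion_hull (m := m) hf
      choose k hk using fun x => ht x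
      refine ⟨y.support.sup fun j => k (y j), fun r hr => ?_⟩
      ext j
      rw [Finsupp.smul_apply, Finsupp.zero_apply]
      by_cases hj : j ∈ y.support
      · refine hk (y j) r (Ideal.pow_le_pow_right ?_ (hale _ hr))
        exact (Finset.le_sup (f := fun j => k (y j)) hj).trans (Nat.lt_pow_self (Fact.out : p.Prime).one_lt).le
      · rw [Finsupp.notMem_support_iff.1 hj, smul_zero]
    obtain ⟨n, hn⟩ := htor y
    obtain ⟨v, hv⟩ := hbasis n
    let A := a n
    haveI : Nontrivial (R ⧸ A) := Ideal.Quotient.nontrivial_iff.2 fun h =>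
      (IsLocalRing.maximalIdeal.isMaximal R).ne_top (top_le_iff.1 (h ▸ halem n))
    haveI : IsLocalRing (R ⧸ A) := .of_surjective' _ Ideal.Quotient.mk_surjective
    have hwreg : RingTheory.Sequence.IsWeaklyRegular R (rs.map (· ^ p ^ n)) := by
      have := RegPow.isWeaklyRegular_pow (rs.map fun r => (r, p ^ n)) R (fun q hq => by
        obtain ⟨r, -, rfl⟩ := List.mem_map.1 hq
        exact Nat.one_le_pow _ _ (Fact.out : p.Prime).pos) (by simpa [List.map_map, Function.comp_def] using hrs)
      simpa [List.map_map, Function.comp_def] using this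
    have hmem : ∀ x ∈ rs.map (· ^ p ^ n), x ∈ maximalIdeal R := fun x hx => halem n (Ideal.subset_span hx)
    have hdim : ringKrullDim (R ⧸ A) = 0 := by
      have h1 := Goren.dim_quot_list _ R (rs.map (· ^ p ^ n)) rfl hwreg hmem
      obtain ⟨k, hk⟩ := SerreReg.exists_dim_nat (R ⧸ A)
      rw [hd, List.length_map, hlen] at h1
      rw [show Ideal.ofList (rs.map (· ^ p ^ n)) = A from rfl, hk] at h1
      rw [hk]
      have : k + d = d := by exact_mod_cast h1
      simp [show k = 0 by omega]
    have hsS : Goren.SocSimple (R ⧸ A) :=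
      (Goren.gorenstein_iff_socSimple_quot R (rs.map (· ^ p ^ n)) hwreg hmem hdim).1 (S0342.result R)
    obtain ⟨θ⟩ := GorTor.exists_equiv_killed hf A hdim hsS
    obtain ⟨s, hs0, hsm, hsoc'⟩ := hsS
    obtain ⟨s, rfl⟩ := Ideal.Quotient.mk_surjective s
    have hsA : s ∉ A := fun h => hs0 (Ideal.Quotient.eq_zero_iff_mem.2 h)
    have hmm : ∀ r ∈ m, Ideal.Quotient.mk A r ∈ maximalIdeal (R ⧸ A) := fun r hr hu => by
      obtain ⟨u, hu⟩ := hu.exists_right_inv
      obtain ⟨u, rfl⟩ := Ideal.Quotient.mk_surjective u
      rw [← map_mul, ← map_one (Ideal.Quotient.mk A), Ideal.Quotient.eq] at hu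
      have h1 := halem n hu
      have h2 : (1 : R) ∈ m := by
        have := sub_mem (Ideal.mul_mem_right u m hr) h1
        rwa [sub_sub_cancel] at this
      exact (IsLocalRing.maximalIdeal.isMaximal R).ne_top ((Ideal.eq_top_iff_one _).2 h2)
    have hsm' : ∀ r ∈ m, r * s ∈ A := fun r hr => by
      rw [← Ideal.Quotient.eq_zero_iff_mem, map_mul]; exact hsm _ (hmm r hr)
    -- the submodule killed by `A`
    let T := Submodule.torsionBySet R (J →₀ E) (A : Set R)
    let W : Submodule R T := (LinearMap.range g).comap T.subtype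
    have hstep : ∀ w : T, w ∈ W ⊔ m • (⊤ : Submodule R T) := by
      intro w
      have hw : ∀ r ∈ A, r • (w : J →₀ E) = 0 := fun r hr => (Submodule.mem_torsionBySet_iff _ _).1 w.2 ⟨r, hr⟩
      obtain ⟨z, hz⟩ := hsoc (s • (w : J →₀ E)) (fun r hr => by rw [smul_smul]; exact hw _ (hsm' r hr))
      obtain ⟨c, hc⟩ := hv.mem_span (z : M) (fun r hr =>
        (Submodule.mem_torsionBySet_iff _ _).1 z.2 ⟨r, halem n hr⟩)
      have hc' : ∀ j, ∃ t : R, c j - t * s ∈ A := by
        intro j
        obtain ⟨t, ht⟩ := Ideal.mem_span_singleton'.1 (hsoc' (Ideal.Quotient.mk A (c j)) (fun x hx => by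
          obtain ⟨x, rfl⟩ := Ideal.Quotient.mk_surjective x
          have hxm : x ∈ m := fun hu => hx (hu.map (Ideal.Quotient.mk A))
          rw [← map_mul, Ideal.Quotient.eq_zero_iff_mem]
          have h1 : Finsupp.linearCombination R v (x • c) = 0 := by
            rw [map_smul, hc]; exact (Submodule.mem_torsionBySet_iff _ _).1 z.2 ⟨x, hxm⟩
          simpa using hv.mem_of_eq_zero _ h1 j))
        obtain ⟨t, rfl⟩ := Ideal.Quotient.mk_surjective t
        rw [← map_mul, Ideal.Quotient.eq] at ht
        exact ⟨t, by rw [← neg_sub]; exact neg_mem ht⟩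
      choose t ht using hc'
      let z' : M := ∑ j ∈ c.support, t j • v j
      have hz' : s • z' = (z : M) := by
        rw [← hc, Finsupp.linearCombination_apply, Finsupp.sum, Finset.smul_sum]
        refine Finset.sum_congr rfl fun j _ => ?_
        rw [smul_smul, ← sub_eq_zero, ← sub_smul, show s * t j - c j = -(c j - t j * s) by ring, neg_smul,
          hv.smul_eq_zero j _ (ht j), neg_zero]
      have hgz' : g z' ∈ T := (Submodule.mem_torsionBySet_iff _ _).2 fun r => by
        show (r : R) • g z' = 0
        rw [← map_smul, Finset.smul_sum, Finset.sum_eq_zero (fun j _ => by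
          rw [smul_comm, hv.smul_eq_zero j r.1 r.2, smul_zero]), map_zero]
      let w' : T := w - ⟨g z', hgz'⟩
      have hsw : s • (w' : J →₀ E) = 0 := by
        show s • ((w : J →₀ E) - g z') = 0
        rw [smul_sub, ← map_smul, hz', ← hz, ← hg]
        exact sub_self _
      have hw'm : w' ∈ m • (⊤ : Submodule R T) := by
        let y' : J →₀ E := w'
        have hy'T : ∀ j, y' j ∈ GorTor.killed A E := fun j => (Submodule.mem_torsionBySet_iff _ _).2 fun r => by
          have := (Submodule.mem_torsionBySet_iff _ _).1 w'.2 r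
          exact DFunLike.congr_fun this j
        have hr : ∀ j, ∃ r : R, θ (Ideal.Quotient.mk A r) = ⟨y' j, hy'T j⟩ := fun j => by
          obtain ⟨q, hq⟩ := θ.surjective ⟨y' j, hy'T j⟩
          obtain ⟨r, rfl⟩ := Ideal.Quotient.mk_surjective q
          exact ⟨r, hq⟩
        choose r hr using hr
        have hrm : ∀ j, r j ∈ m := fun j => by
          by_contra hu
          have h1 : θ (Ideal.Quotient.mk A (s * r j)) = 0 := by
            rw [map_mul, show Ideal.Quotient.mk A s * Ideal.Quotient.mk A (r j) = s • Ideal.Quotient.mk A (r j) by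
              rw [Algebra.smul_def, Ideal.Quotient.algebraMap_eq], map_smul, hr]
            exact Subtype.ext (DFunLike.congr_fun hsw j)
          rw [LinearEquiv.map_eq_zero_iff, Ideal.Quotient.eq_zero_iff_mem] at h1
          exact hsA ((Ideal.mul_unit_mem_iff_mem A (IsLocalRing.notMem_maximalIdeal.1 hu)).1 h1)
        have hone : ∀ j, Finsupp.single j (θ 1 : E) ∈ T := fun j => (Submodule.mem_torsionBySet_iff _ _).2 fun x => by
          show (x : R) • Finsupp.single j (θ 1 : E) = 0
          rw [Finsupp.smul_single, show (x : R) • (θ 1 : E) = 0 from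
            (Submodule.mem_torsionBySet_iff _ _).1 (θ 1).2 x, Finsupp.single_zero]
        have hsum : w' = ∑ j ∈ y'.support, r j • (⟨_, hone j⟩ : T) := by
          refine Subtype.ext ?_
          rw [AddSubmonoidClass.coe_finsetSum]
          conv_lhs => rw [show (w' : J →₀ E) = y' from rfl, ← Finsupp.sum_single y']
          refine Finset.sum_congr rfl fun j _ => ?_
          rw [Submodule.coe_smul, Finsupp.smul_single, ← Submodule.coe_smul, ← map_smul,
            show r j • (1 : R ⧸ A) = Ideal.Quotient.mk A (r j) by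
              rw [Algebra.smul_def, Ideal.Quotient.algebraMap_eq, mul_one], hr]
        rw [hsum]
        exact Submodule.sum_mem _ fun j _ => Submodule.smul_mem_smul (hrm j) trivial
      have : w = ⟨g z', hgz'⟩ + w' := by simp [w']
      rw [this]
      exact Submodule.add_mem_sup (show g z' ∈ LinearMap.range g from ⟨z', rfl⟩) hw'm
    have hiter : ∀ k : ℕ, (⊤ : Submodule R T) ≤ W ⊔ m ^ k • (⊤ : Submodule R T) := by
      intro k
      induction k with
      | zero => rw [pow_zero, Ideal.one_eq_top, Submodule.top_smul]; exact le_sup_right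
      | succ k ih =>
        refine ih.trans (sup_le le_sup_left ?_)
        refine (Submodule.smul_mono le_rfl (fun w _ => hstep w)).trans ?_
        rw [Submodule.smul_sup, ← Submodule.mul_smul, ← pow_succ]
        exact sup_le (le_sup_of_le_left Submodule.smul_le_right) le_sup_right
    obtain ⟨-, ht⟩ := Goren.isFiniteLength_of_dim_zero (R ⧸ A) hdim
    obtain ⟨N, hN⟩ := ht (1 : R ⧸ A)
    have hbot : m ^ N • (⊤ : Submodule R T) = ⊥ := by
      rw [eq_bot_iff, Submodule.smul_le]
      intro x hx w _
      have hxA : x ∈ A := by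
        rw [← Ideal.Quotient.eq_zero_iff_mem]
        have h1 := hN (Ideal.Quotient.mk A x) (Ideal.pow_right_mono (Ideal.map_le_iff_le_comap.2 hmm) N
          (Ideal.map_pow (Ideal.Quotient.mk A) m N ▸ Ideal.mem_map_of_mem _ hx))
        rwa [smul_eq_mul, mul_one] at h1
      exact (Submodule.mem_bot R).2 (Subtype.ext ((Submodule.mem_torsionBySet_iff _ _).1 w.2 ⟨x, hxA⟩))
    have h1 := hiter N (show (⟨y, (Submodule.mem_torsionBySet_iff _ _).2 fun r => hn r.1 r.2⟩ : T) ∈ ⊤ from trivial)
    rw [hbot, sup_bot_eq] at h1
    exact h1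
  exact ⟨J, ⟨LinearEquiv.ofBijective g ⟨ginj, gsurj⟩⟩⟩

end Groth.Agent.FrobHull
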